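import Cfsg.Agent.H568.NX.NotNineK
import Cfsg.Agent.S0000

/-!
# S4979, layer (B), B1: simple groups whose order is not divisible by `9` (helper568)
-/

set_option autoImplicit false

namespace Cfsg.Agent.H568.NX

open Cfsg

theorem card_of_not_nine {S : Type*} [Group S] [Finite S] [IsSimpleGroup S] (hna : ¬ IsMulCommutative S)
    (h3 : 3 ∣ Nat.card S) (h9 : ¬ 9 ∣ Nat.card S) (hd : Nat.card S ∣ 2 ^ 25 * 3 ^ 6 * 5 ^ 2 * 7 * 11 * 17 * 31) :
    Nat.card S = 60 ∨ Nat.card S = 168 ∨ Nat.card S = 660 ∨ Nat.card S = 4080 ∨ Nat.card S = 14880 ∨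
      Nat.card S = 32736 :=
  card_of_not_nine_of Cfsg.Agent.S0000.result hna h3 h9 hd

end Cfsg.Agent.H568.NX
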