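import Cfsg.Agent.OrdDiv.Table

/-!
# S4979, layer (B), B1: simple groups whose order is not divisible by `9` (helper568)
-/

set_option autoImplicit false

namespace Cfsg.Agent.H568.NX

open Cfsg Cfsg.Agent.OrdDiv

/-- the factorization -/
def lst : List (ℕ × ℕ) := [(2, 25), (3, 1), (5, 2), (7, 1), (11, 1), (17, 1), (31, 1)]

/-- the condition on the order -/
def cnd (g : Grp) : Bool := Nat.beq (ordN g % 3) 0

theorem goodOrder :
    ∀ g ∈ (cands lst (2 ^ 25 * 3 * 5 ^ 2 * 7 * 11 * 17 * 31)).filter cnd,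
      ordN g = 60 ∨ ordN g = 168 ∨ ordN g = 660 ∨ ordN g = 4080 ∨ ordN g = 14880 ∨ ordN g = 32736 := by
  decide +kernel

theorem valid_lst : valid lst (2 ^ 25 * 3 * 5 ^ 2 * 7 * 11 * 17 * 31) = true := by decide +kernel

theorem card_of_not_nine_of {S : Type*} [Group S] (hS : IsKnownSimple' S) (hna : ¬ IsMulCommutative S)
    (h3 : 3 ∣ Nat.card S) (h9 : ¬ 9 ∣ Nat.card S) (hd : Nat.card S ∣ 2 ^ 25 * 3 ^ 6 * 5 ^ 2 * 7 * 11 * 17 * 31) :
    Nat.card S = 60 ∨ Nat.card S = 168 ∨ Nat.card S = 660 ∨ Nat.card S = 4080 ∨ Nat.card S = 14880 ∨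
      Nat.card S = 32736 := by
  have hd' : Nat.card S ∣ 2 ^ 25 * 3 * 5 ^ 2 * 7 * 11 * 17 * 31 := by
    obtain ⟨m, hm⟩ := h3
    have hm3 : m.Coprime (3 ^ 5) := by
      apply Nat.Coprime.pow_right
      rw [Nat.coprime_comm, Nat.Prime.coprime_iff_not_dvd Nat.prime_three]
      intro h
      apply h9
      rw [hm]
      exact Nat.mul_dvd_mul_left 3 h
    have h1 : m ∣ (2 ^ 25 * 5 ^ 2 * 7 * 11 * 17 * 31) * 3 ^ 5 := by
      rw [hm] at hd
      have h2 : 3 * m ∣ 3 * ((2 ^ 25 * 5 ^ 2 * 7 * 11 * 17 * 31) * 3 ^ 5) := by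
        refine hd.trans (dvd_of_eq ?_)
        norm_num
      exact Nat.dvd_of_mul_dvd_mul_left (by norm_num) h2
    have h2 := hm3.dvd_of_dvd_mul_right h1
    rw [hm]
    refine (Nat.mul_dvd_mul_left 3 h2).trans (dvd_of_eq ?_)
    norm_num
  obtain ⟨g, hg, -, ho⟩ := exists_good table hS (fun h => hna ⟨⟨h⟩⟩) valid_lst hd'
  have h1 : g ∈ (cands lst (2 ^ 25 * 3 * 5 ^ 2 * 7 * 11 * 17 * 31)).filter cnd := by
    refine List.mem_filter.2 ⟨hg, ?_⟩
    rw [cnd, ← ho, Nat.beq_eq]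
    exact Nat.mod_eq_zero_of_dvd h3
  rw [ho]
  exact goodOrder g h1

end Cfsg.Agent.H568.NX
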